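-- Team project LSF (S5286): package [TREE] (helper65).
import Mathlib
import Cfsg.Agent.Lib.Helper67.LSF.Defs

set_option autoImplicit false

namespace Cfsg.Agent.Lib.Helper65.LSF
open Cfsg Cfsg.Agent.Lib.Helper67.LSF

universe u

/-- The automorphisms `autX α q` do not increase the word norm. -/
theorem norm_autX_le65 {Q : Type u} [Group Q] {X : Type u} [DecidableEq X]
    (α : Q →* Equiv.Perm X) (q : Q) (w : FreeGroup X) : (autX α q w).norm ≤ w.norm := by
  have h0 := FreeGroup.mk_toWord (x := w)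
  calc (autX α q w).norm = (autX α q (FreeGroup.mk w.toWord)).norm := by rw [h0]
    _ = (FreeGroup.mk (w.toWord.map fun ℓ => (α q ℓ.1, ℓ.2))).norm := by rw [autX_mk]
    _ ≤ (w.toWord.map fun ℓ => (α q ℓ.1, ℓ.2)).length := FreeGroup.norm_mk_le
    _ = w.norm := by rw [List.length_map]; rfl

/-- The automorphisms `autX α q` preserve the word norm. -/
theorem norm_autX65 {Q : Type u} [Group Q] {X : Type u} [DecidableEq X] (α : Q →* Equiv.Perm X)
    (q : Q) (w : FreeGroup X) : (autX α q w).norm = w.norm := by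
  apply le_antisymm (norm_autX_le65 α q w)
  have h2 : w = autX α q⁻¹ (autX α q w) := by
    rw [← MulAut.mul_apply, ← map_mul, inv_mul_cancel, map_one]
    rfl
  calc w.norm = (autX α q⁻¹ (autX α q w)).norm := by rw [← h2]
    _ ≤ (autX α q w).norm := norm_autX_le65 α q⁻¹ _

/-- [TREE] a finite subgroup of `FreeGroup X ⋊ Q` fixes a vertex of every invariant convex set of
vertices of the Cayley tree. -/
theorem pkgTree (hVS : PkgVShape.{u}) : PkgTree.{u} := by
  intro Q _ X α H _ V h1 hinvar hconv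
  classical
  have : Fintype H := Fintype.ofFinite H
  obtain ⟨act, hact⟩ : ∃ act : SemidirectProduct (FreeGroup X) Q (autX α) → FreeGroup X →
      FreeGroup X, act = fun h v => h.left * autX α h.right v := ⟨_, rfl⟩
  have act_iso : ∀ h u v, ((act h u)⁻¹ * act h v).norm = (u⁻¹ * v).norm := by
    intro h u v
    have e : (act h u)⁻¹ * act h v = autX α h.right (u⁻¹ * v) := by
      simp only [hact, map_mul, map_inv]
      group
    rw [e, norm_autX65]
  obtain ⟨R, hR⟩ : ∃ R : FreeGroup X → ℕ,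
      R = fun v => Finset.univ.sup (fun h : H => (v⁻¹ * h.1.left).norm) := ⟨_, rfl⟩
  have hsup : ∀ w, R w = Finset.univ.sup (fun h : H => (w⁻¹ * h.1.left).norm) := by
    intro w
    rw [hR]
  have hle : ∀ v (h : H), (v⁻¹ * h.1.left).norm ≤ R v := by
    intro v h
    rw [hsup]
    exact Finset.le_sup (f := fun h : H => (v⁻¹ * h.1.left).norm) (Finset.mem_univ h)
  have hRinv : ∀ (g : H) v, R (act g.1 v) ≤ R v := by
    intro g v
    have hgoal : ∀ h : H, ((act g.1 v)⁻¹ * h.1.left).norm ≤ R v := by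
      intro h
      have e : h.1.left = act g.1 ((g⁻¹ * h).1.left) := by
        have e0 : h.1 = g.1 * (g⁻¹ * h).1 := by simp
        conv_lhs => rw [e0]
        rw [SemidirectProduct.mul_left, hact]
      rw [e, act_iso]
      exact hle v (g⁻¹ * h)
    exact (hsup _).le.trans (Finset.sup_le (fun h _ => hgoal h))
  have hex : ∃ n, ∃ v ∈ V, R v = n := ⟨R 1, 1, h1, rfl⟩
  obtain ⟨v, hvV, hvn⟩ := Nat.find_spec hex
  have hmin : ∀ v' ∈ V, R v ≤ R v' := by
    intro v' hv'
    rw [hvn]
    exact Nat.find_min' hex ⟨v', hv', rfl⟩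
  -- two minimizers are at distance at most one
  have hC : ∀ a ∈ V, ∀ b ∈ V, R a = R v → R b = R v → (a⁻¹ * b).norm ≤ 1 := by
    intro a ha b hb hRa hRb
    by_contra hcon
    have hlen : 2 ≤ (a⁻¹ * b).toWord.length := by
      have : ¬ (a⁻¹ * b).toWord.length ≤ 1 := hcon
      omega
    obtain ⟨y, z, t, hW⟩ : ∃ y z t, (a⁻¹ * b).toWord = y :: z :: t := by
      rcases hw : (a⁻¹ * b).toWord with _ | ⟨y, _ | ⟨z, t⟩⟩
      · rw [hw] at hlen; simp at hlen
      · rw [hw] at hlen; simp at hlen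
      · exact ⟨y, z, t, rfl⟩
    have hred : FreeGroup.IsReduced ([y] ++ (z :: t)) := by
      have h0 := FreeGroup.isReduced_toWord (x := a⁻¹ * b)
      rw [hW] at h0
      exact h0
    have hmk : FreeGroup.mk ([y] ++ (z :: t)) = a⁻¹ * b := by
      have h0 := FreeGroup.mk_toWord (x := a⁻¹ * b)
      rw [hW] at h0
      exact h0
    have hb' : a * FreeGroup.mk ([y] ++ (z :: t)) = b := by
      rw [hmk]; group
    have hmid : a * FreeGroup.mk [y] ∈ V :=
      hconv a ha [y] (z :: t) hred (by rw [hb']; exact hb)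
    have hlt : ∀ h : H, ((a * FreeGroup.mk [y])⁻¹ * h.1.left).norm < R v := by
      intro h
      have e1 : ((a * FreeGroup.mk [y])⁻¹ * h.1.left).norm
          = ((h.1.left)⁻¹ * a * FreeGroup.mk [y]).norm := by
        rw [← FreeGroup.norm_inv_eq]
        congr 1
        group
      have e2 := hVS ((h.1.left)⁻¹ * a) [y] (z :: t) hred (by simp) (by simp)
      rw [e1]
      refine lt_of_lt_of_le e2 (max_le ?_ ?_)
      · have e3 : ((h.1.left)⁻¹ * a).norm = (a⁻¹ * h.1.left).norm := by
          rw [← FreeGroup.norm_inv_eq]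
          congr 1
          group
        rw [e3, ← hRa]
        exact hle a h
      · have e3 : ((h.1.left)⁻¹ * a * FreeGroup.mk ([y] ++ z :: t)).norm
            = (b⁻¹ * h.1.left).norm := by
          rw [← FreeGroup.norm_inv_eq]
          congr 1
          rw [hmk]
          group
        rw [e3, ← hRb]
        exact hle b h
    have hpos : 0 < R v := lt_of_le_of_lt (Nat.zero_le _) (hlt 1)
    have hlt2 : R (a * FreeGroup.mk [y]) < R v := by
      have h0 : Finset.univ.sup (fun h : H => ((a * FreeGroup.mk [y])⁻¹ * h.1.left).norm)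
          < R v := (Finset.sup_lt_iff hpos).2 (fun h _ => hlt h)
      rw [hsup (a * FreeGroup.mk [y])]
      exact h0
    exact absurd (hmin _ hmid) (not_le.2 hlt2)
  refine ⟨v, hvV, ?_⟩
  intro h hh
  by_contra hne
  have hv'V : act h v ∈ V := by
    rw [hact]
    exact hinvar h hh v hvV
  have hRv' : R (act h v) = R v := le_antisymm (hRinv ⟨h, hh⟩ v) (hmin _ hv'V)
  have hv''V : act h (act h v) ∈ V := by
    have h0 := hinvar h hh _ hv'V
    rw [hact]
    rw [hact] at h0
    exact h0
  have hRv'' : R (act h (act h v)) = R v :=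
    le_antisymm ((hRinv ⟨h, hh⟩ (act h v)).trans hRv'.le) (hmin _ hv''V)
  have d1 : (v⁻¹ * act h v).norm ≤ 1 := hC v hvV _ hv'V rfl hRv'
  have d2 : (v⁻¹ * act h (act h v)).norm ≤ 1 := hC v hvV _ hv''V rfl hRv''
  have hne' : act h v ≠ v := by
    intro h0
    apply hne
    rw [hact] at h0
    exact h0
  have d1' : (v⁻¹ * act h v).norm = 1 := by
    apply le_antisymm d1
    rw [Nat.one_le_iff_ne_zero]
    intro h0
    rw [FreeGroup.norm_eq_zero] at h0
    apply hne'
    have h3 := congrArg (fun z => v * z) h0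
    simpa using h3
  obtain ⟨ℓ, hℓ⟩ : ∃ ℓ, (v⁻¹ * act h v).toWord = [ℓ] := List.length_eq_one_iff.1 d1'
  have hw : v⁻¹ * act h v = FreeGroup.mk [ℓ] := by
    have h0 := FreeGroup.mk_toWord (x := v⁻¹ * act h v)
    rw [hℓ] at h0
    exact h0.symm
  have hv'eq : act h v = v * FreeGroup.mk [ℓ] := by
    rw [← hw]; group
  have hv''eq : act h (act h v) = v * FreeGroup.mk [ℓ, (α h.right ℓ.1, ℓ.2)] := by
    have e1 : act h (act h v) = act h v * autX α h.right (FreeGroup.mk [ℓ]) := by
      conv_lhs => rw [hv'eq]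
      rw [hact]
      simp only [map_mul, mul_assoc]
    rw [e1, autX_mk, hv'eq, mul_assoc]
    rfl
  have hred2 : FreeGroup.IsReduced [ℓ, (α h.right ℓ.1, ℓ.2)] := by
    rw [FreeGroup.isReduced_cons_cons]
    exact ⟨fun _ => rfl, FreeGroup.IsReduced.singleton⟩
  have d3 : (v⁻¹ * act h (act h v)).norm = 2 := by
    rw [hv''eq]
    have e1 : v⁻¹ * (v * FreeGroup.mk [ℓ, (α h.right ℓ.1, ℓ.2)])
        = FreeGroup.mk [ℓ, (α h.right ℓ.1, ℓ.2)] := by group
    rw [e1]
    unfold FreeGroup.norm
    rw [FreeGroup.toWord_mk, hred2.reduce_eq]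
    rfl
  omega

end Cfsg.Agent.Lib.Helper65.LSF
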